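import Cfsg.Agent.Lib.SmallFaithful.Lattice
import Mathlib

/-!
# Averages over cosets and the filtration of a unipotent endomorphism
-/

set_option autoImplicit false
set_option linter.unusedSectionVars false
set_option linter.style.haveILetI false

namespace Cfsg.Agent.Lib.CyclicTIBound

open Finset Polynomial

universe u v w

variable {F : Type u} [Field F] {V : Type v} [AddCommGroup V] [Module F V]
  {Γ : Type w} [Group Γ]

/-- The sum of the conjugates of an endomorphism over the cosets of a subgroup. -/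
noncomputable def cosetSum (ρ : Representation F Γ V) (H : Subgroup Γ) [Fintype (Γ ⧸ H)]
    (u : Module.End F V) : Module.End F V :=
  ∑ q : Γ ⧸ H, ρ q.out * u * ρ (q.out)⁻¹

variable (ρ : Representation F Γ V) (H : Subgroup Γ)

theorem conj_out {u : Module.End F V} (hu : ∀ h ∈ H, ρ h * u = u * ρ h) (g : Γ) :
    ρ (g : Γ ⧸ H).out * u * ρ ((g : Γ ⧸ H).out)⁻¹ = ρ g * u * ρ g⁻¹ := by
  obtain ⟨n, hn⟩ := QuotientGroup.mk_out_eq_mul H g
  rw [hn, mul_inv_rev, map_mul, map_mul,
    show ρ g * ρ n * u * (ρ (n : Γ)⁻¹ * ρ g⁻¹) = ρ g * (ρ n * u) * ρ (n : Γ)⁻¹ * ρ g⁻¹ by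
      noncomm_ring, hu n n.2, mul_assoc (ρ g), mul_assoc u, ← map_mul, mul_inv_cancel, map_one,
    mul_one]

theorem cosetSum_comm [Fintype (Γ ⧸ H)] {u : Module.End F V}
    (hu : ∀ h ∈ H, ρ h * u = u * ρ h) (g : Γ) : ρ g * cosetSum ρ H u = cosetSum ρ H u * ρ g := by
  have h1 : ρ g * cosetSum ρ H u * ρ g⁻¹ = cosetSum ρ H u := by
    rw [cosetSum, Finset.mul_sum, Finset.sum_mul]
    refine Fintype.sum_equiv (MulAction.toPerm g) _ _ fun q => ?_
    obtain ⟨h, rfl⟩ := QuotientGroup.mk_surjective q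
    rw [MulAction.toPerm_apply, MulAction.Quotient.smul_mk, smul_eq_mul, conj_out ρ H hu,
      conj_out ρ H hu, map_mul, mul_inv_rev, map_mul]
    noncomm_ring
  conv_rhs => rw [← h1]
  rw [mul_assoc (ρ g * cosetSum ρ H u), ← map_mul, inv_mul_cancel, map_one, mul_one]

variable (T : Module.End F V)

/-- `f` maps the image of `T ^ i` into the image of `T ^ (i + k)`. -/
def Raises (k : ℕ) (f : Module.End F V) : Prop :=
  ∀ i v, ∃ w, f ((T ^ i) v) = (T ^ (i + k)) w

theorem Raises.zero (k : ℕ) : Raises T k (0 : Module.End F V) := fun _ _ => ⟨0, by simp⟩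

variable {T}

theorem Raises.add {k : ℕ} {f g : Module.End F V} (hf : Raises T k f) (hg : Raises T k g) :
    Raises T k (f + g) := fun i v => by
  obtain ⟨a, ha⟩ := hf i v
  obtain ⟨b, hb⟩ := hg i v
  exact ⟨a + b, by rw [map_add, LinearMap.add_apply, ha, hb]⟩

theorem Raises.smul {k : ℕ} {f : Module.End F V} (hf : Raises T k f) (c : F) :
    Raises T k (c • f) := fun i v => by
  obtain ⟨a, ha⟩ := hf i v
  exact ⟨c • a, by rw [map_smul, LinearMap.smul_apply, ha]⟩

theorem Raises.sum {k : ℕ} {ι : Type*} (s : Finset ι) {f : ι → Module.End F V}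
    (h : ∀ i ∈ s, Raises T k (f i)) : Raises T k (∑ i ∈ s, f i) :=
  Finset.sum_induction _ (Raises T k) (fun _ _ => Raises.add) (Raises.zero T k) h

/-- A multiple of `T ^ k` by something commuting with `T`. -/
theorem raises_pow_mul {k : ℕ} {Y : Module.End F V} (hY : Commute Y T) :
    Raises T k (T ^ k * Y) := fun i v => ⟨Y v, by
  rw [← Module.End.mul_apply, mul_assoc, (hY.pow_right i).eq, ← mul_assoc, ← pow_add,
    Module.End.mul_apply, add_comm]⟩

/-- The norm of a conjugation of order `m = p ^ n` is deep in the filtration. -/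
theorem raises_sum_conj {p n d : ℕ} [Fact p.Prime] [CharP F p] (X Xinv : Module.End F V)
    (hT : T = X - 1) (hX : X * Xinv = 1) (hX' : Xinv * X = 1) (hTd : T ^ d = 0)
    (hd : d ≤ p ^ n) (w : Module.End F V) :
    Raises T (p ^ n - d) (∑ k ∈ range (p ^ n), X ^ k * w * Xinv ^ k) := by
  let σ : Module.End F (Module.End F V) :=
    (LinearMap.mulLeft F X).comp (LinearMap.mulRight F Xinv)
  have hσ : ∀ f, σ f = X * f * Xinv := fun f => by simp [σ, mul_assoc]
  have hσk : ∀ k : ℕ, (σ ^ k) w = X ^ k * w * Xinv ^ k := by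
    intro k
    induction k with
    | zero => simp
    | succ k ih =>
      rw [pow_succ' σ, Module.End.mul_apply, ih, hσ, pow_succ' X, pow_succ Xinv]
      simp only [mul_assoc]
  have hgeom : (∑ k ∈ range (p ^ n), (Polynomial.X : F[X]) ^ k) =
      (Polynomial.X - 1) ^ (p ^ n - 1) := by
    have hp0 : 0 < p ^ n := pow_pos (Fact.out (p := p.Prime)).pos n
    refine mul_right_cancel₀ (b := (Polynomial.X - 1 : F[X]))
      (by rw [← C_1]; exact X_sub_C_ne_zero 1) ?_
    rw [geom_sum_mul, ← pow_succ, Nat.sub_add_cancel hp0, sub_pow_char_pow, one_pow]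
  have hsum : ∑ k ∈ range (p ^ n), X ^ k * w * Xinv ^ k = ((σ - 1) ^ (p ^ n - 1)) w := by
    have h := congrArg (Polynomial.aeval σ) hgeom
    simp only [map_sum, map_pow, aeval_X, map_sub, map_one] at h
    rw [← h, LinearMap.sum_apply]
    exact sum_congr rfl fun k _ => (hσk k).symm
  have hXT : Commute Xinv T := by
    rw [hT]
    exact Commute.sub_right (hX'.trans hX.symm) (Commute.one_right _)
  have hQ : ∀ j : ℕ, ∀ i v, ∃ z, ((σ - 1) ^ j) w ((T ^ i) v) = (T ^ (i + j + 1 - d)) z := by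
    intro j
    induction j with
    | zero =>
      intro i v
      rcases lt_or_ge i d with h | h
      · exact ⟨w ((T ^ i) v), by rw [show i + 0 + 1 - d = 0 by omega]; simp⟩
      · refine ⟨0, ?_⟩
        obtain ⟨l, rfl⟩ := Nat.exists_eq_add_of_le h
        rw [pow_add, hTd, zero_mul]
        simp
    | succ j ih =>
      intro i v
      set f := ((σ - 1) ^ j) w with hf
      have hstep : ((σ - 1) ^ (j + 1)) w = (T * f - f * T) * Xinv := by
        rw [pow_succ', Module.End.mul_apply, ← hf, LinearMap.sub_apply, Module.End.one_apply, hσ,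
          hT, show (X - 1) * f - f * (X - 1) = X * f - f * X by noncomm_ring, sub_mul, mul_assoc f X,
          hX, mul_one]
      rw [hstep]
      have h1 : Xinv ((T ^ i) v) = (T ^ i) (Xinv v) := by
        rw [← Module.End.mul_apply, (hXT.pow_right i).eq, Module.End.mul_apply]
      rw [Module.End.mul_apply, h1, LinearMap.sub_apply, Module.End.mul_apply, Module.End.mul_apply]
      obtain ⟨a, ha⟩ := ih i (Xinv v)
      obtain ⟨b, hb⟩ := ih (i + 1) (Xinv v)
      have h2 : T ((T ^ i) (Xinv v)) = (T ^ (i + 1)) (Xinv v) := by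
        rw [pow_succ', Module.End.mul_apply]
      rw [h2, ha, hb]
      rcases lt_or_ge (i + j + 1) d with h | h
      · exact ⟨_, by rw [show i + (j + 1) + 1 - d = 0 by omega, pow_zero, Module.End.one_apply]⟩
      · refine ⟨a - b, ?_⟩
        rw [show i + (j + 1) + 1 - d = (i + j + 1 - d) + 1 by omega,
          show i + 1 + j + 1 - d = (i + j + 1 - d) + 1 by omega, map_sub, pow_succ' T,
          Module.End.mul_apply, Module.End.mul_apply]
  intro i v
  obtain ⟨z, hz⟩ := hQ (p ^ n - 1) i v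
  refine ⟨z, ?_⟩
  rw [hsum, hz]
  congr 2
  have hp0 : 0 < p ^ n := pow_pos (Fact.out (p := p.Prime)).pos n
  omega

/-- `(X ^ a - 1) ^ (p - 1)` has leading term `T ^ (p - 1)`. -/
theorem raises_pow_sub {p : ℕ} [hp : Fact p.Prime] [CharP F p] {X : Module.End F V}
    (hT : T = X - 1) {a : ℕ} (ha : ¬ p ∣ a) :
    Raises T p ((X ^ a - 1) ^ (p - 1) - T ^ (p - 1)) := by
  set s : F[X] := (∑ k ∈ range a, (Polynomial.X : F[X]) ^ k) ^ (p - 1) - 1 with hs
  have h0 : s.IsRoot 1 := by
    have h1 : ((a : ZMod p)) ^ (p - 1) = 1 := ZMod.pow_card_sub_one_eq_one (by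
      rwa [Ne, ZMod.natCast_eq_zero_iff])
    have h2 := congrArg (ZMod.castHom dvd_rfl F) h1
    simp only [map_pow, map_natCast, map_one] at h2
    simp [hs, IsRoot, eval_finsetSum, h2]
  obtain ⟨q, hq⟩ := dvd_iff_isRoot.mpr h0
  have h3 : ((Polynomial.X : F[X]) ^ a - 1) ^ (p - 1) - (Polynomial.X - 1) ^ (p - 1) =
      (Polynomial.X - 1) ^ p * q := by
    calc _ = (Polynomial.X - 1) ^ (p - 1) * s := by
          rw [← geom_sum_mul (Polynomial.X : F[X]) a, mul_pow, hs]; ring
      _ = _ := by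
          rw [hq, C_1, ← mul_assoc, ← pow_succ, Nat.sub_add_cancel hp.out.one_le]
  have h4 := congrArg (Polynomial.aeval X) h3
  simp only [map_sub, map_pow, map_mul, aeval_X, map_one, ← hT] at h4
  rw [h4]
  refine raises_pow_mul ?_
  rw [hT, show X - 1 = Polynomial.aeval X (Polynomial.X - 1 : F[X]) by simp]
  exact (Commute.all q (Polynomial.X - 1 : F[X])).map (Polynomial.aeval X)

end Cfsg.Agent.Lib.CyclicTIBound
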