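import Cfsg.Agent.Lib.CyclicTIBound.Average
import Mathlib

/-!
# Faithful irreducible representations in characteristic `p` with a cyclic TI Sylow subgroup
-/

set_option autoImplicit false
set_option linter.unusedSectionVars false
set_option linter.style.haveILetI false

namespace Cfsg.Agent.Lib.CyclicTIBound

open Finset

universe u v w

theorem finrank_lower_bound {G : Type w} [Group G] [Finite G] (p : ℕ) [hp : Fact p.Prime]
    (P : Sylow p G) (hcyc : IsCyclic P) (n : ℕ) (hn : 2 ≤ n) (hPn : Nat.card P = p ^ n)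
    (hTI : ∀ Q : Sylow p G, Q ≠ P → (P : Subgroup G) ⊓ (Q : Subgroup G) = ⊥) {F : Type u}
    [Field F] [CharP F p] {V : Type v} [AddCommGroup V] [Module F V] [FiniteDimensional F V]
    (ρ : Representation F G V) (hfaith : Function.Injective ρ) (hirr : ρ.IsIrreducible) :
    p ^ n - (p - 1) ≤ Module.finrank F V := by
  classical
  cases nonempty_fintype G
  by_contra hlt
  set d := Module.finrank F V
  have hp2 := hp.out.two_le
  have hpn : p ≤ p ^ (n - 1) := Nat.le_self_pow (by omega) p
  have hbound : p + d ≤ p ^ n := by omega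
  -- the generator
  obtain ⟨⟨x, hxP⟩, hgen⟩ := hcyc.exists_generator
  have hzP : Subgroup.zpowers x = (P : Subgroup G) :=
    le_antisymm ((Subgroup.zpowers_le).mpr hxP) fun y hy => by
      obtain ⟨k, hk⟩ := Subgroup.mem_zpowers_iff.mp (hgen ⟨y, hy⟩)
      exact Subgroup.mem_zpowers_iff.mpr ⟨k, congrArg Subtype.val hk⟩
  have hord : orderOf x = p ^ n := by
    rw [← Nat.card_zpowers, hzP]; exact hPn
  set X := ρ x with hX
  set T := X - 1 with hT
  have hXi : X * ρ x⁻¹ = 1 := by rw [hX, ← map_mul, mul_inv_cancel, map_one]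
  have hXi' : ρ x⁻¹ * X = 1 := by rw [hX, ← map_mul, inv_mul_cancel, map_one]
  -- `V` is nontrivial, so the endomorphisms have characteristic `p`
  haveI hVnt : Nontrivial V := by
    by_contra h
    rw [not_nontrivial_iff_subsingleton] at h
    have h1 : x = 1 := hfaith (LinearMap.ext fun v => Subsingleton.elim _ _)
    rw [h1, orderOf_one] at hord
    have := Nat.le_self_pow (show n ≠ 0 by omega) p
    omega
  haveI : CharP (Module.End F V) p :=
    charP_of_injective_algebraMap (FaithfulSMul.algebraMap_injective F (Module.End F V)) p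
  have hTnil : T ^ d = 0 := by
    have h1 : IsNilpotent T := ⟨p ^ n, by
      rw [hT, sub_pow_char_pow_of_commute _ _ (Commute.one_right X), one_pow, hX, ← map_pow, ← hord,
        pow_orderOf_eq_one, map_one, sub_self]⟩
    have h2 := T.aeval_self_charpoly
    rwa [IsNilpotent.charpoly_eq_X_pow_finrank h1, map_pow, Polynomial.aeval_X] at h2
  have hTne : T ^ (p - 1) ≠ 0 := by
    intro h
    have h1 : T ^ p ^ (n - 1) = 0 := pow_eq_zero_of_le (by omega) h
    rw [hT, sub_pow_char_pow_of_commute _ _ (Commute.one_right X), one_pow, hX, ← map_pow, sub_eq_zero,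
      ← map_one ρ] at h1
    have h2 := orderOf_dvd_of_pow_eq_one (hfaith h1)
    rw [hord, Nat.pow_dvd_pow_iff_le_right hp.out.one_lt] at h2
    omega
  -- the normalizer
  set N := Subgroup.normalizer ((P : Subgroup G) : Set G) with hN
  have hPN : (P : Subgroup G) ≤ N := Subgroup.le_normalizer
  have hfree : ∀ (g : G) (k : ℕ), g⁻¹ * x ^ k * g ∈ N → x ^ k ≠ 1 → g ∈ N := by
    intro g k hk hne
    have hy : g⁻¹ * x ^ k * g ∈ (P : Subgroup G) := by
      have h1 : IsPGroup p (Subgroup.zpowers (g⁻¹ * x ^ k * g)) := by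
        refine IsPGroup.of_card (n := (Nat.card (Subgroup.zpowers (g⁻¹ * x ^ k * g))).factorization p) ?_
        rw [Nat.card_zpowers]
        have h0 : (g⁻¹ * x ^ k * g) ^ p ^ n = 1 := by
          rw [show g⁻¹ * x ^ k * g = g⁻¹ * x ^ k * g⁻¹⁻¹ by rw [inv_inv], conj_pow, ← pow_mul,
            mul_comm, pow_mul, ← hord, pow_orderOf_eq_one, one_pow, mul_one, inv_inv,
            inv_mul_cancel]
        obtain ⟨l, -, hl⟩ := (Nat.dvd_prime_pow hp.out).mp (orderOf_dvd_of_pow_eq_one h0)
        rw [hl, hp.out.factorization_pow, Finsupp.single_eq_same]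
      have h2 : Subgroup.zpowers (g⁻¹ * x ^ k * g) ⊓ N =
          Subgroup.zpowers (g⁻¹ * x ^ k * g) ⊓ (P : Subgroup G) := IsPGroup.inf_normalizer_sylow h1 P
      have h3 : g⁻¹ * x ^ k * g ∈ Subgroup.zpowers (g⁻¹ * x ^ k * g) ⊓ N :=
        ⟨Subgroup.mem_zpowers _, hk⟩
      rw [h2] at h3
      exact h3.2
    refine Sylow.smul_eq_iff_mem_normalizer.mp ?_
    by_contra hQ
    have h4 : x ^ k ∈ (P : Subgroup G) ⊓ ((g • P : Sylow p G) : Subgroup G) := by
      refine ⟨pow_mem hxP k, ?_⟩
      rw [Sylow.coe_subgroup_smul]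
      refine (Subgroup.mem_smul_pointwise_iff_exists _ _ _).mpr ⟨_, hy, ?_⟩
      rw [MulAut.smul_def, MulAut.conj_apply]
      group
    rw [hTI _ hQ] at h4
    exact hne h4
  -- an endomorphism commuting with the normalizer, with leading term a multiple of `T ^ (p - 1)`
  set u0 := T ^ (p - 1) with hu0
  have hu0P : ∀ h ∈ (P : Subgroup G).subgroupOf N, (ρ.comp N.subtype) h * u0 =
      u0 * (ρ.comp N.subtype) h := by
    intro h hh
    rw [Subgroup.mem_subgroupOf, ← hzP] at hh
    obtain ⟨k, hk⟩ := mem_powers_iff_mem_zpowers.mpr hh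
    have h1 : (ρ.comp N.subtype) h = X ^ k := by
      rw [MonoidHom.comp_apply, Subgroup.coe_subtype, ← hk, map_pow]
    rw [h1]
    exact ((Commute.sub_right (Commute.refl X) (Commute.one_right X)).pow_left k).pow_right _
  set u := cosetSum (ρ.comp N.subtype) ((P : Subgroup G).subgroupOf N) u0 with hu
  have huN : ∀ h ∈ N, ρ h * u = u * ρ h := fun h hh =>
    cosetSum_comm (ρ.comp N.subtype) _ hu0P ⟨h, hh⟩
  set c : ℕ := Nat.card (N ⧸ (P : Subgroup G).subgroupOf N) with hc
  have hu1 : Raises T p (u - (c : F) • u0) := by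
    have h1 : u - (c : F) • u0 = ∑ q : N ⧸ (P : Subgroup G).subgroupOf N,
        ((ρ.comp N.subtype) q.out * u0 * (ρ.comp N.subtype) (q.out)⁻¹ - u0) := by
      rw [sum_sub_distrib, sum_const, card_univ, ← Nat.card_eq_fintype_card, ← hc,
        Nat.cast_smul_eq_nsmul, hu, cosetSum]
    rw [h1]
    refine Raises.sum _ fun q _ => ?_
    set g : N := q.out
    have hgx : (g : G) * x * (g : G)⁻¹ ∈ (P : Subgroup G) :=
      (Subgroup.mem_normalizer_iff.mp g.2 x).mp hxP
    rw [← hzP] at hgx
    obtain ⟨a, ha⟩ := mem_powers_iff_mem_zpowers.mpr hgx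
    have ha' : ¬ p ∣ a := by
      rintro ⟨b, rfl⟩
      have h2 : ((g : G) * x * (g : G)⁻¹) ^ p ^ (n - 1) = 1 := by
        rw [← ha, ← pow_mul, show p * b * p ^ (n - 1) = p ^ n * b by
          rw [mul_right_comm, ← pow_succ', Nat.sub_add_cancel (by omega : 1 ≤ n)],
          pow_mul, ← hord, pow_orderOf_eq_one, one_pow]
      rw [conj_pow, mul_inv_eq_one, mul_eq_left] at h2
      have h3 := orderOf_dvd_of_pow_eq_one h2
      rw [hord, Nat.pow_dvd_pow_iff_le_right hp.out.one_lt] at h3
      omega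
    have h5 : (ρ.comp N.subtype) g * u0 * (ρ.comp N.subtype) g⁻¹ = (X ^ a - 1) ^ (p - 1) := by
      simp only [MonoidHom.comp_apply, Subgroup.coe_subtype, Subgroup.coe_inv]
      have hgi : ρ g * ρ (g : G)⁻¹ = 1 := by rw [← map_mul, mul_inv_cancel, map_one]
      have hgi' : ρ (g : G)⁻¹ * ρ g = 1 := by rw [← map_mul, inv_mul_cancel, map_one]
      let w : (Module.End F V)ˣ := ⟨ρ g, ρ (g : G)⁻¹, hgi, hgi'⟩
      show (w : Module.End F V) * u0 * ((w⁻¹ : (Module.End F V)ˣ) : Module.End F V) = _
      rw [hu0, ← Units.conj_pow]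
      congr 1
      show ρ g * T * ρ (g : G)⁻¹ = _
      rw [hT, mul_sub, sub_mul, mul_one, hgi, hX, ← map_mul, ← map_mul, ← ha, map_pow]
    rw [h5]
    exact raises_pow_sub hT ha'
  -- average over the cosets of the normalizer
  set U := cosetSum ρ N u with hU
  have hUc : ∀ g, ρ g * U = U * ρ g := cosetSum_comm ρ N huN
  have hrest : Raises T p (U - u) := by
    have h1 : U - u = ∑ q ∈ univ.erase ((1 : G) : G ⧸ N), ρ q.out * u * ρ (q.out)⁻¹ := by
      rw [hU, cosetSum, ← add_sum_erase _ _ (mem_univ ((1 : G) : G ⧸ N)), conj_out ρ N huN]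
      simp
    rw [h1]
    haveI : NeZero (p ^ n) := ⟨pow_ne_zero _ hp.out.ne_zero⟩
    have hxk : ∀ k l : ZMod (p ^ n), x ^ (k + l).val = x ^ k.val * x ^ l.val := fun k l => by
      rw [← pow_add, ZMod.val_add, pow_eq_pow_iff_modEq, hord]
      exact Nat.mod_modEq _ _
    refine SmallFaithful.sum_orbits_induction (fun (k : ZMod (p ^ n)) q => x ^ k.val • q)
      (fun q => by rw [ZMod.val_zero, pow_zero, one_smul]) (fun k l q => by rw [hxk, mul_smul]) _
      (Raises T p) (Raises.zero T p) (fun a b => Raises.add) _ ?_ ?_ ?_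
    · intro q hq k
      refine mem_erase.mpr ⟨fun h => (mem_erase.mp hq).1 ?_, mem_univ _⟩
      have h2 := congrArg (fun z => (x ^ k.val)⁻¹ • z) h
      simp only [inv_smul_smul, MulAction.Quotient.smul_mk, smul_eq_mul, mul_one] at h2
      rw [h2, QuotientGroup.eq, inv_inv, mul_one]
      exact hPN (pow_mem hxP _)
    · intro q hq k hk
      obtain ⟨g, rfl⟩ := QuotientGroup.mk_surjective q
      by_contra hk0
      apply (mem_erase.mp hq).1
      rw [MulAction.Quotient.smul_mk, smul_eq_mul, eq_comm, QuotientGroup.eq, ← mul_assoc] at hk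
      rw [eq_comm, QuotientGroup.eq, inv_one, one_mul]
      refine hfree g k.val hk fun h => hk0 ?_
      have h9 := orderOf_dvd_of_pow_eq_one h
      rw [hord] at h9
      rw [← ZMod.natCast_zmod_val k, ZMod.natCast_eq_zero_iff]
      exact h9
    · intro q _
      obtain ⟨g, rfl⟩ := QuotientGroup.mk_surjective q
      have h3 : ∀ k : ZMod (p ^ n), ρ (x ^ k.val • (g : G ⧸ N)).out * u *
          ρ ((x ^ k.val • (g : G ⧸ N)).out)⁻¹ =
          X ^ k.val * (ρ g * u * ρ g⁻¹) * (ρ x⁻¹) ^ k.val := by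
        intro k
        rw [MulAction.Quotient.smul_mk, smul_eq_mul, conj_out ρ N huN, mul_inv_rev, map_mul,
          map_mul, ← inv_pow, map_pow, map_pow]
        noncomm_ring
      simp only [h3]
      have h4 : ∑ k : ZMod (p ^ n), X ^ k.val * (ρ g * u * ρ g⁻¹) * (ρ x⁻¹) ^ k.val =
          ∑ k ∈ range (p ^ n), X ^ k * (ρ g * u * ρ g⁻¹) * (ρ x⁻¹) ^ k :=
        sum_bij' (fun k _ => k.val) (fun i _ => (i : ZMod (p ^ n)))
          (fun k _ => mem_range.mpr (ZMod.val_lt k)) (fun i _ => mem_univ _)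
          (fun k _ => ZMod.natCast_zmod_val k)
          (fun i hi => ZMod.val_natCast_of_lt (mem_range.mp hi)) (fun k _ => rfl)
      rw [h4]
      intro i v
      obtain ⟨z, hz⟩ :=
        raises_sum_conj (n := n) X (ρ x⁻¹) hT hXi hXi' hTnil (by omega) (ρ g * u * ρ g⁻¹) i v
      refine ⟨(T ^ (p ^ n - d - p)) z, ?_⟩
      rw [hz, ← Module.End.mul_apply, ← pow_add]
      congr 2
      omega
  have hmain : Raises T p (U - (c : F) • u0) := by
    rw [← sub_add_sub_cancel U u ((c : F) • u0)]
    exact hrest.add hu1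
  have hc0 : (c : F) ≠ 0 := by
    rw [Ne, CharP.cast_eq_zero_iff F p]
    intro h
    exact P.not_dvd_index (h.trans (Dvd.intro (N.index) (Subgroup.relIndex_mul_index hPN)))
  -- `U` is a nonzero intertwiner with nonzero kernel
  have hU0 : U ≠ 0 := by
    intro h0
    have hstep : ∀ v, ∃ w, (T ^ (p - 1)) v = (T ^ p) w := by
      intro v
      obtain ⟨w, hw⟩ := hmain 0 v
      rw [h0, pow_zero, Module.End.one_apply, zero_sub, LinearMap.neg_apply, LinearMap.smul_apply,
        zero_add] at hw
      refine ⟨-((c : F)⁻¹ • w), ?_⟩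
      rw [map_neg, map_smul, ← hw, smul_neg, neg_neg, inv_smul_smul₀ hc0]
    have hall : ∀ (j : ℕ) v, ∃ w, (T ^ (p - 1)) v = (T ^ (p - 1 + j)) w := by
      intro j
      induction j with
      | zero => exact fun v => ⟨v, rfl⟩
      | succ j ih =>
        intro v
        obtain ⟨w, hw⟩ := ih v
        obtain ⟨w', hw'⟩ := hstep w
        refine ⟨w', ?_⟩
        rw [hw, add_comm (p - 1) j, pow_add, Module.End.mul_apply, hw', ← Module.End.mul_apply,
          ← pow_add]
        congr 2
        omega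
    apply hTne
    ext v
    obtain ⟨w, hw⟩ := hall d v
    rw [hw, add_comm, pow_add, hTnil, zero_mul]
    simp
  let K : Subrepresentation ρ :=
    { toSubmodule := LinearMap.ker U
      apply_mem_toSubmodule := fun g v hv => by
        rw [LinearMap.mem_ker] at hv ⊢
        rw [← Module.End.mul_apply, ← hUc, Module.End.mul_apply, hv, map_zero] }
  haveI := hirr
  rcases eq_bot_or_eq_top K with hK | hK
  · -- the last nonzero power of `T` lands in the kernel
    obtain ⟨m, hm, hm'⟩ : ∃ m, T ^ m ≠ 0 ∧ T ^ (m + 1) = 0 := by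
      have hex : ∃ m, T ^ m = 0 := ⟨d, hTnil⟩
      have h0 : Nat.find hex ≠ 0 := fun h => by
        have := Nat.find_spec hex
        rw [h, pow_zero] at this
        exact one_ne_zero this
      exact ⟨Nat.find hex - 1, Nat.find_min hex (by omega),
        by rw [Nat.sub_add_cancel (by omega : 1 ≤ Nat.find hex)]; exact Nat.find_spec hex⟩
    obtain ⟨v, hv⟩ : ∃ v, (T ^ m) v ≠ 0 := by
      by_contra hcon
      push Not at hcon
      exact hm (LinearMap.ext hcon)
    have hmem : (T ^ m) v ∈ K.toSubmodule := by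
      show U ((T ^ m) v) = 0
      obtain ⟨w, hw⟩ := hmain m v
      have hk : ∀ k, m + 1 ≤ k → T ^ k = 0 := fun k hk => pow_eq_zero_of_le hk hm'
      rw [hk (m + p) (by omega), LinearMap.zero_apply, LinearMap.sub_apply, LinearMap.smul_apply,
        hu0, ← Module.End.mul_apply (T ^ (p - 1)), ← pow_add, hk (p - 1 + m) (by omega),
        LinearMap.zero_apply, smul_zero, sub_zero] at hw
      exact hw
    have h5 := congrArg Subrepresentation.toSubmodule hK
    rw [h5] at hmem
    exact hv ((Submodule.mem_bot F).mp hmem)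
  · apply hU0
    have h5 := congrArg Subrepresentation.toSubmodule hK
    ext v
    have h6 : v ∈ K.toSubmodule := by rw [h5]; exact Submodule.mem_top
    exact LinearMap.mem_ker.mp h6

end Cfsg.Agent.Lib.CyclicTIBound
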